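import Mathlib.RepresentationTheory.Homological.GroupCohomology.LowDegree
import Mathlib.RepresentationTheory.Homological.GroupCohomology.Functoriality
import Mathlib.RepresentationTheory.Rep.Res
import Mathlib.Algebra.Homology.ShortComplex.ShortExact
import Mathlib.Algebra.Homology.ShortComplex.ExactFunctor
import Mathlib.LinearAlgebra.FreeModule.Basic

set_option autoImplicit false
open CategoryTheory

namespace K934.Cofl

/-- vanishing of `H¹` in terms of cocycles. -/
theorem isZero_H1_iff {k : Type} [CommRing k] {G : Type} [Group G] (A : Rep.{0} k G) :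
    Limits.IsZero (groupCohomology A 1) ↔
      ∀ f : G → A, (∀ g h : G, f (g * h) = A.ρ g (f h) + f g) →
        ∃ x : A, ∀ g, f g = A.ρ g x - x := by
  constructor
  · intro h f hf
    have hf' : f ∈ groupCohomology.cocycles₁ A := (groupCohomology.mem_cocycles₁_iff f).2 hf
    have hs : Subsingleton (groupCohomology A 1) :=
      ModuleCat.subsingleton_of_isZero h
    have h0 : groupCohomology.H1π A ⟨f, hf'⟩ = 0 := Subsingleton.elim _ _
    rw [groupCohomology.H1π_eq_zero_iff] at h0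
    obtain ⟨x, hx⟩ := h0
    refine ⟨x, fun g => ?_⟩
    have := congrFun hx g
    rw [← groupCohomology.d₀₁_hom_apply A x g]
    exact this.symm
  · intro h
    have hs : Subsingleton (groupCohomology A 1) := by
      refine subsingleton_of_forall_eq 0 fun y => ?_
      induction y using groupCohomology.H1_induction_on with
      | h x =>
        rw [groupCohomology.H1π_eq_zero_iff]
        obtain ⟨a, ha⟩ := h x ((groupCohomology.mem_cocycles₁_iff _).1 x.2)
        refine ⟨a, ?_⟩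
        funext g
        rw [groupCohomology.d₀₁_hom_apply]
        exact (ha g).symm
    exact ModuleCat.isZero_of_subsingleton _

end K934.Cofl

namespace K934.Cofl

variable {k : Type} [CommRing k]

/-- the homomorphism out of `ℤ[X]` attached to a map `X → A`. -/
noncomputable def lc {X : Type} {A : Type} [AddCommGroup A] [Module k A] (c : X → A) :
    MonoidAlgebra k X →ₗ[k] A :=
  Finsupp.lift A k X c ∘ₗ (MonoidAlgebra.coeffLinearEquiv _).toLinearMap

theorem lc_single {X : Type} {A : Type} [AddCommGroup A] [Module k A] (c : X → A) (x : X) :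
    lc (k := k) c (MonoidAlgebra.single x 1) = c x := by
  simp [lc, Finsupp.sum_single_index]

theorem lc_ext {X : Type} {A : Type} [AddCommGroup A] [Module k A]
    {f g : MonoidAlgebra k X →ₗ[k] A}
    (h : ∀ x, f (MonoidAlgebra.single x 1) = g (MonoidAlgebra.single x 1)) : f = g := by
  ext x
  simpa using h x

section fwd

variable {Γ : Type} [Group Γ]

/-- elementwise data of a short exact sequence. -/
theorem elems {E : ShortComplex (Rep.{0} k Γ)} (hE : E.ShortExact) :
    Function.Injective E.f.hom ∧ Function.Surjective E.g.hom ∧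
      ∀ e : E.X₂.V, E.g.hom e = 0 → ∃ a : E.X₁.V, E.f.hom a = e := by
  have h := hE.map_of_exact (forget₂ (Rep.{0} k Γ) (ModuleCat.{0} k))
  refine ⟨(Rep.mono_iff_injective _).1 hE.mono_f, (Rep.epi_iff_surjective _).1 hE.epi_g, ?_⟩
  intro e he
  exact (ShortComplex.moduleCat_exact_iff _).1 h.exact e he

/-- lifting an invariant element. -/
theorem exists_fixed_lift {E : ShortComplex (Rep.{0} k Γ)} (hE : E.ShortExact)
    (H : Subgroup Γ) (h1 : Limits.IsZero (groupCohomology (Rep.res H.subtype E.X₁) 1))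
    (y : E.X₃.V) (hy : ∀ h ∈ H, E.X₃.ρ h y = y) :
    ∃ e : E.X₂.V, E.g.hom e = y ∧ ∀ h ∈ H, E.X₂.ρ h e = e := by
  obtain ⟨hinj, hsurj, hex⟩ := elems hE
  obtain ⟨e, he⟩ := hsurj y
  have hd : ∀ h : H, ∃ a : E.X₁.V, E.f.hom a = E.X₂.ρ (h : Γ) e - e := by
    intro h
    apply hex
    rw [map_sub, Rep.hom_comm_apply, he, hy h h.2, sub_self]
  choose a ha using hd
  rw [isZero_H1_iff] at h1
  obtain ⟨x, hx⟩ := h1 (fun h => a h) (by
    intro g h
    apply hinj
    change E.f.hom (a (g * h)) = E.f.hom (E.X₁.ρ (g : Γ) (a h) + a g)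
    rw [map_add, Rep.hom_comm_apply, ha, ha, ha]
    simp [map_sub])
  refine ⟨e - E.f.hom x, ?_, ?_⟩
  · have : E.g.hom (E.f.hom x) = 0 := by
      have := E.zero
      have h2 := congrArg (fun t => t.hom x) this
      exact h2
    rw [map_sub, this, sub_zero, he]
  · intro h hh
    have h3 := congrArg E.f.hom (hx ⟨h, hh⟩)
    have h4 : E.f.hom (a ⟨h, hh⟩) = E.f.hom (E.X₁.ρ h x - x) := h3
    rw [ha, map_sub, Rep.hom_comm_apply] at h4
    rw [map_sub]
    have h5 : E.X₂.ρ h e - e = E.X₂.ρ h (E.f.hom x) - E.f.hom x := h4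
    rw [sub_eq_sub_iff_add_eq_add] at h5 ⊢
    rw [h5]
    abel

/-- an equivariant family of lifts. -/
theorem exists_equivariant_lift {E : ShortComplex (Rep.{0} k Γ)} (hE : E.ShortExact)
    (h1 : ∀ H : Subgroup Γ, Limits.IsZero (groupCohomology (Rep.res H.subtype E.X₁) 1))
    {X : Type} [MulAction Γ X] (y : X → E.X₃.V) (hy : ∀ (g : Γ) x, y (g • x) = E.X₃.ρ g (y x)) :
    ∃ e : X → E.X₂.V, (∀ x, E.g.hom (e x) = y x) ∧ ∀ (g : Γ) x, e (g • x) = E.X₂.ρ g (e x) := by
  classical
  let r : X → X := fun x => Quotient.out (Quotient.mk (MulAction.orbitRel Γ X) x)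
  have hr : ∀ x, ∃ g : Γ, g • r x = x := by
    intro x
    have : (MulAction.orbitRel Γ X).r (r x) x := by
      have := Quotient.mk_out (s := MulAction.orbitRel Γ X) x
      exact this
    have h2 : r x ∈ MulAction.orbit Γ x := this
    obtain ⟨g, hg⟩ := h2
    refine ⟨g⁻¹, ?_⟩
    have hg' : g • x = r x := hg
    rw [← hg', inv_smul_smul]
  have hrg : ∀ (g : Γ) x, r (g • x) = r x := by
    intro g x
    have : Quotient.mk (MulAction.orbitRel Γ X) (g • x) = Quotient.mk (MulAction.orbitRel Γ X) x :=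
      Quotient.sound (⟨g, rfl⟩ : g • x ∈ MulAction.orbit Γ x)
    simp only [r, this]
  choose t ht using hr
  have hfix : ∀ x0 : X, ∃ e : E.X₂.V, E.g.hom e = y x0 ∧
      ∀ h ∈ MulAction.stabilizer Γ x0, E.X₂.ρ h e = e := by
    intro x0
    refine exists_fixed_lift hE _ (h1 _) (y x0) ?_
    intro h hh
    rw [← hy, MulAction.mem_stabilizer_iff.1 hh]
  choose e he1 he2 using hfix
  refine ⟨fun x => E.X₂.ρ (t x) (e (r x)), ?_, ?_⟩
  · intro x
    rw [Rep.hom_comm_apply, he1, ← hy, ht]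
  · intro g x
    change E.X₂.ρ (t (g • x)) (e (r (g • x))) = E.X₂.ρ g (E.X₂.ρ (t x) (e (r x)))
    rw [hrg]
    have h5 : (g * t x)⁻¹ * t (g • x) ∈ MulAction.stabilizer Γ (r x) := by
      rw [MulAction.mem_stabilizer_iff, mul_smul, inv_smul_eq_iff, mul_smul, ht]
      have := ht (g • x)
      rw [hrg] at this
      exact this
    have h6 := he2 (r x) _ h5
    have h7 : t (g • x) = (g * t x) * ((g * t x)⁻¹ * t (g • x)) := by group
    rw [h7, map_mul, Module.End.mul_apply, h6, map_mul, Module.End.mul_apply]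

theorem fwd (Λ : Rep.{0} k Γ)
    (h1 : ∀ Γ' : Subgroup Γ, Limits.IsZero (groupCohomology (Rep.res Γ'.subtype Λ) 1))
    (X : Type) [MulAction Γ X] (E : ShortComplex (Rep.{0} k Γ)) (hE : E.ShortExact)
    (i : E.X₁ ≅ Λ) (j : E.X₃ ≅ Rep.ofMulAction k Γ X) : Nonempty E.Splitting := by
  have h1' : ∀ H : Subgroup Γ,
      Limits.IsZero (groupCohomology (Rep.res H.subtype E.X₁) 1) := by
    intro H
    refine (h1 H).of_iso ?_
    exact (groupCohomology.functor k H 1).mapIso ((Rep.resFunctor H.subtype).mapIso i)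
  obtain ⟨e, he1, he2⟩ := exists_equivariant_lift hE h1' (X := X)
    (fun x => j.inv.hom (MonoidAlgebra.single x 1)) (by
      intro g x
      have h3 : (MonoidAlgebra.single (g • x) (1 : k) : MonoidAlgebra k X) =
          (Rep.ofMulAction k Γ X).ρ g (MonoidAlgebra.single x 1) := by
        rw [Rep.of_ρ, Representation.ofMulAction_single]
      rw [h3, Rep.hom_comm_apply])
  let s' : Rep.ofMulAction k Γ X ⟶ E.X₂ := Rep.ofHom (σ := E.X₂.ρ)
    ⟨lc e, fun g => by
      apply lc_ext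
      intro x
      rw [LinearMap.comp_apply, LinearMap.comp_apply, Representation.ofMulAction_single,
        lc_single, lc_single, he2]⟩
  have hs' : s' ≫ E.g = j.inv := by
    ext1
    apply Representation.IntertwiningMap.ext
    apply lc_ext
    intro x
    change E.g.hom (lc e _) = j.inv.hom _
    rw [lc_single, he1]
  have := hE.mono_f
  exact ⟨ShortComplex.Splitting.ofExactOfSection E hE.exact (j.hom ≫ s')
    (by rw [Category.assoc, hs', Iso.hom_inv_id]) hE.mono_f⟩

end fwd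

section bwd

variable {Γ : Type} [Group Γ] {Λ : Rep.{0} k Γ} {X : Type} [MulAction Γ X]

/-- the extension of `k[X]` by `Λ` attached to a cocycle `c : Γ × X → Λ`. -/
noncomputable def extRep (c : Γ → X → Λ.V)
    (hc1 : ∀ x, c 1 x = 0)
    (hc : ∀ g h x, c (g * h) x = Λ.ρ g (c h x) + c g (h • x)) :
    Representation k Γ (Λ.V × MonoidAlgebra k X) where
  toFun g := LinearMap.prod (Λ.ρ g ∘ₗ LinearMap.fst k _ _ + lc (c g) ∘ₗ LinearMap.snd k _ _)
    (Representation.ofMulAction k Γ X g ∘ₗ LinearMap.snd k _ _)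
  map_one' := by
    have h0 : lc (k := k) (c 1) = 0 := lc_ext fun x => by rw [lc_single, hc1]; rfl
    apply LinearMap.ext
    rintro ⟨a, b⟩
    simp [h0]
  map_mul' g h := by
    have h0 : lc (k := k) (c (g * h)) =
        Λ.ρ g ∘ₗ lc (c h) + lc (c g) ∘ₗ Representation.ofMulAction k Γ X h := by
      apply lc_ext
      intro x
      rw [lc_single, hc, LinearMap.add_apply, LinearMap.comp_apply, LinearMap.comp_apply,
        Representation.ofMulAction_single, lc_single, lc_single]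
    apply LinearMap.ext
    rintro ⟨a, b⟩
    refine Prod.ext ?_ ?_
    · change Λ.ρ (g * h) a + lc (c (g * h)) b =
        Λ.ρ g (Λ.ρ h a + lc (c h) b) + lc (c g) (Representation.ofMulAction k Γ X h b)
      rw [h0, map_mul, map_add, Module.End.mul_apply, LinearMap.add_apply, LinearMap.comp_apply,
        LinearMap.comp_apply, add_assoc]
    · change Representation.ofMulAction k Γ X (g * h) b = _
      rw [map_mul]
      rfl

theorem extRep_apply (c : Γ → X → Λ.V)
    (hc1 : ∀ x, c 1 x = 0)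
    (hc : ∀ g h x, c (g * h) x = Λ.ρ g (c h x) + c g (h • x)) (g : Γ) (a : Λ.V)
    (p : MonoidAlgebra k X) :
    extRep c hc1 hc g (a, p) =
      (Λ.ρ g a + lc (c g) p, Representation.ofMulAction k Γ X g p) := rfl

/-- the short complex. -/
noncomputable def extComplex (c : Γ → X → Λ.V)
    (hc1 : ∀ x, c 1 x = 0)
    (hc : ∀ g h x, c (g * h) x = Λ.ρ g (c h x) + c g (h • x)) :
    ShortComplex (Rep.{0} k Γ) where
  X₁ := Λ
  X₂ := Rep.of (extRep c hc1 hc)
  X₃ := Rep.ofMulAction k Γ X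
  f := Rep.ofHom (ρ := Λ.ρ) ⟨LinearMap.inl k _ _, fun g => by
    apply LinearMap.ext
    intro a
    change (Λ.ρ g a, (0 : MonoidAlgebra k X)) = extRep c hc1 hc g (a, 0)
    rw [extRep_apply]
    simp⟩
  g := Rep.ofHom ⟨LinearMap.snd k _ _, fun g => by
    apply LinearMap.ext
    rintro ⟨a, p⟩
    rfl⟩
  zero := rfl

theorem extComplex_shortExact (c : Γ → X → Λ.V)
    (hc1 : ∀ x, c 1 x = 0)
    (hc : ∀ g h x, c (g * h) x = Λ.ρ g (c h x) + c g (h • x)) :
    (extComplex c hc1 hc).ShortExact := by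
  have hm : Mono (extComplex c hc1 hc).f := by
    rw [Rep.mono_iff_injective]
    intro a b hab
    exact congrArg Prod.fst hab
  have he : Epi (extComplex c hc1 hc).g := by
    rw [Rep.epi_iff_surjective]
    intro p
    exact ⟨(0, p), rfl⟩
  refine { exact := ?_, mono_f := hm, epi_g := he }
  rw [← ShortComplex.exact_map_iff_of_faithful _ (forget₂ (Rep.{0} k Γ) (ModuleCat.{0} k))]
  rw [ShortComplex.moduleCat_exact_iff]
  rintro ⟨a, p⟩ h
  have h' : p = 0 := h
  refine ⟨a, ?_⟩
  subst h'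
  rfl

theorem exists_of_splitting (c : Γ → X → Λ.V)
    (hc1 : ∀ x, c 1 x = 0)
    (hc : ∀ g h x, c (g * h) x = Λ.ρ g (c h x) + c g (h • x))
    (σ : (extComplex c hc1 hc).Splitting) :
    ∃ b : X → Λ.V, ∀ g x, b (g • x) = Λ.ρ g (b x) + c g x := by
  let s : Rep.ofMulAction k Γ X ⟶ Rep.of (extRep c hc1 hc) := σ.s
  have hs : s ≫ (extComplex c hc1 hc).g = 𝟙 _ := σ.s_g
  have hs2 : ∀ p : MonoidAlgebra k X, (s.hom p).2 = p := by
    intro p
    have := congrArg (fun t => t.hom p) hs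
    exact this
  refine ⟨fun x => (s.hom (MonoidAlgebra.single x 1)).1, ?_⟩
  intro g x
  have h3 : (MonoidAlgebra.single (g • x) (1 : k) : MonoidAlgebra k X) =
      (Rep.ofMulAction k Γ X).ρ g (MonoidAlgebra.single x 1) := by
    rw [Rep.of_ρ, Representation.ofMulAction_single]
  have h4 := Rep.hom_comm_apply s g (MonoidAlgebra.single x 1)
  rw [← h3] at h4
  change (s.hom (MonoidAlgebra.single (g • x) 1)).1 = _
  rw [h4]
  have h5 : s.hom (MonoidAlgebra.single x 1) =
      ((s.hom (MonoidAlgebra.single x 1)).1, MonoidAlgebra.single x 1) := by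
    exact Prod.ext rfl (hs2 _)
  have h6 : (Rep.of (extRep c hc1 hc)).ρ g (s.hom (MonoidAlgebra.single x 1)) =
      (Λ.ρ g (s.hom (MonoidAlgebra.single x 1)).1 + lc (c g) (MonoidAlgebra.single x (1 : k)),
        Representation.ofMulAction k Γ X g (MonoidAlgebra.single x (1 : k))) := by
    conv_lhs => rw [h5]
    rfl
  rw [h6, lc_single]

end bwd

theorem bwd {Γ : Type} [Group Γ] (Λ : Rep.{0} k Γ) (Γ' : Subgroup Γ)
    (h : ∀ E : ShortComplex (Rep.{0} k Γ),
        E.ShortExact → Nonempty (E.X₁ ≅ Λ) → Nonempty (E.X₃ ≅ Rep.ofMulAction k Γ (Γ ⧸ Γ')) →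
          Nonempty E.Splitting) :
    Limits.IsZero (groupCohomology (Rep.res Γ'.subtype Λ) 1) := by
  classical
  rw [isZero_H1_iff]
  intro f hf
  have hf' : ∀ a b : Γ', f (a * b) = Λ.ρ (a : Γ) (f b) + f a := hf
  let s : Γ ⧸ Γ' → Γ := Quotient.out
  have hs : ∀ x, (QuotientGroup.mk (s x) : Γ ⧸ Γ') = x := fun x => Quotient.out_eq' x
  have hmem : ∀ (g : Γ) (x : Γ ⧸ Γ'), (s (g • x))⁻¹ * (g * s x) ∈ Γ' := by
    intro g x
    rw [← QuotientGroup.eq, hs]
    conv_lhs => rw [← hs x]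
    rfl
  let c : Γ → Γ ⧸ Γ' → Λ.V := fun g x => Λ.ρ (s (g • x)) (f ⟨_, hmem g x⟩)
  have hc1 : ∀ x, c 1 x = 0 := by
    intro x
    have h0 : f 1 = 0 := by
      have := hf' 1 1
      simpa using this
    have h1 : (⟨_, hmem 1 x⟩ : Γ') = 1 := by
      ext
      simp
    simp only [c]
    rw [h1, h0, map_zero]
  have hc : ∀ g h x, c (g * h) x = Λ.ρ g (c h x) + c g (h • x) := by
    intro g h x
    have h1 : (⟨_, hmem (g * h) x⟩ : Γ') = ⟨_, hmem g (h • x)⟩ * ⟨_, hmem h x⟩ := by
      ext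
      simp [mul_smul]
      group
    simp only [c]
    rw [h1, hf', map_add]
    congr 1
    · rw [← Module.End.mul_apply, ← map_mul, ← Module.End.mul_apply, ← map_mul]
      congr 2
      simp [mul_smul]
    · rw [mul_smul]
  obtain ⟨σ⟩ := h (extComplex c hc1 hc) (extComplex_shortExact c hc1 hc) ⟨Iso.refl _⟩
    ⟨Iso.refl _⟩
  obtain ⟨b, hb⟩ := exists_of_splitting c hc1 hc σ
  let x0 : Γ ⧸ Γ' := QuotientGroup.mk 1
  have ht : s x0 ∈ Γ' := by
    have := hs x0
    rw [QuotientGroup.eq] at this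
    simpa using this
  refine ⟨-Λ.ρ (s x0)⁻¹ (b x0), ?_⟩
  intro g
  have hgx : (s x0 * g * (s x0)⁻¹) • x0 = x0 := by
    change (QuotientGroup.mk ((s x0 * g * (s x0)⁻¹) * 1) : Γ ⧸ Γ') = QuotientGroup.mk 1
    rw [QuotientGroup.eq]
    simp only [mul_one, inv_mul_cancel_right, mul_inv_rev, inv_inv]
    exact Γ'.mul_mem ht (Γ'.mul_mem (Γ'.inv_mem g.2) (Γ'.inv_mem ht))
  have h2 := hb (s x0 * g * (s x0)⁻¹) x0
  have h3 : c (s x0 * g * (s x0)⁻¹) x0 = Λ.ρ (s x0) (f g) := by
    simp only [c]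
    have h4 : (⟨_, hmem (s x0 * g * (s x0)⁻¹) x0⟩ : Γ') = g := by
      ext
      simp only [hgx]
      group
    rw [h4, hgx]
  rw [h3, hgx] at h2
  have h5 := congrArg (Λ.ρ (s x0)⁻¹) h2
  rw [map_add, ← Module.End.mul_apply, ← map_mul, ← Module.End.mul_apply, ← map_mul,
    inv_mul_cancel, map_one, Module.End.one_apply] at h5
  change f g = Λ.ρ (g : Γ) (-Λ.ρ (s x0)⁻¹ (b x0)) - -Λ.ρ (s x0)⁻¹ (b x0)
  rw [map_neg, ← Module.End.mul_apply, ← map_mul]
  rw [h5]
  have h6 : (s x0)⁻¹ * (s x0 * ↑g * (s x0)⁻¹) = ↑g * (s x0)⁻¹ := by group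
  rw [h6]
  abel

end K934.Cofl
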